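set_option autoImplicit false
namespace Cfsg.Agent.Lib.Helper6.TCD.ONaL
noncomputable def HL2L64 (i : Nat) : Nat := Nat.land (Nat.shiftRight 0x0 (Nat.mul 24 (Nat.land i 1023))) 16777215
noncomputable def HL2L65 (i : Nat) : Nat := Nat.land (Nat.shiftRight 0x0 (Nat.mul 24 (Nat.land i 1023))) 16777215
noncomputable def HL2P1N0 (i : Nat) : Nat := Bool.rec (HL2L64 i) (HL2L65 i) (Nat.ble 66560 i)
noncomputable def HL2L66 (i : Nat) : Nat := Nat.land (Nat.shiftRight 0x0 (Nat.mul 24 (Nat.land i 1023))) 16777215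
noncomputable def HL2L67 (i : Nat) : Nat := Nat.land (Nat.shiftRight 0x0 (Nat.mul 24 (Nat.land i 1023))) 16777215
noncomputable def HL2P1N1 (i : Nat) : Nat := Bool.rec (HL2L66 i) (HL2L67 i) (Nat.ble 68608 i)
noncomputable def HL2P1N2 (i : Nat) : Nat := Bool.rec (HL2P1N0 i) (HL2P1N1 i) (Nat.ble 67584 i)
noncomputable def HL2L68 (i : Nat) : Nat := Nat.land (Nat.shiftRight 0x0 (Nat.mul 24 (Nat.land i 1023))) 16777215
noncomputable def HL2L69 (i : Nat) : Nat := Nat.land (Nat.shiftRight 0x0 (Nat.mul 24 (Nat.land i 1023))) 16777215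
noncomputable def HL2P1N3 (i : Nat) : Nat := Bool.rec (HL2L68 i) (HL2L69 i) (Nat.ble 70656 i)
noncomputable def HL2L70 (i : Nat) : Nat := Nat.land (Nat.shiftRight 0x0 (Nat.mul 24 (Nat.land i 1023))) 16777215
noncomputable def HL2P1N4 (i : Nat) : Nat := Bool.rec (HL2P1N3 i) (HL2L70 i) (Nat.ble 71680 i)
noncomputable def HL2P1N5 (i : Nat) : Nat := Bool.rec (HL2P1N2 i) (HL2P1N4 i) (Nat.ble 69632 i)
noncomputable def HL2L71 (i : Nat) : Nat := Nat.land (Nat.shiftRight 0x0 (Nat.mul 24 (Nat.land i 1023))) 16777215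
noncomputable def HL2L72 (i : Nat) : Nat := Nat.land (Nat.shiftRight 0x0 (Nat.mul 24 (Nat.land i 1023))) 16777215
noncomputable def HL2P1N6 (i : Nat) : Nat := Bool.rec (HL2L71 i) (HL2L72 i) (Nat.ble 73728 i)
noncomputable def HL2L73 (i : Nat) : Nat := Nat.land (Nat.shiftRight 0x0 (Nat.mul 24 (Nat.land i 1023))) 16777215
noncomputable def HL2L74 (i : Nat) : Nat := Nat.land (Nat.shiftRight 0x0 (Nat.mul 24 (Nat.land i 1023))) 16777215
noncomputable def HL2P1N7 (i : Nat) : Nat := Bool.rec (HL2L73 i) (HL2L74 i) (Nat.ble 75776 i)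
noncomputable def HL2P1N8 (i : Nat) : Nat := Bool.rec (HL2P1N6 i) (HL2P1N7 i) (Nat.ble 74752 i)
noncomputable def HL2L75 (i : Nat) : Nat := Nat.land (Nat.shiftRight 0x0 (Nat.mul 24 (Nat.land i 1023))) 16777215
noncomputable def HL2L76 (i : Nat) : Nat := Nat.land (Nat.shiftRight 0x0 (Nat.mul 24 (Nat.land i 1023))) 16777215
noncomputable def HL2P1N9 (i : Nat) : Nat := Bool.rec (HL2L75 i) (HL2L76 i) (Nat.ble 77824 i)
noncomputable def HL2L77 (i : Nat) : Nat := Nat.land (Nat.shiftRight 0x0 (Nat.mul 24 (Nat.land i 1023))) 16777215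
noncomputable def HL2P1N10 (i : Nat) : Nat := Bool.rec (HL2P1N9 i) (HL2L77 i) (Nat.ble 78848 i)
noncomputable def HL2P1N11 (i : Nat) : Nat := Bool.rec (HL2P1N8 i) (HL2P1N10 i) (Nat.ble 76800 i)
noncomputable def HL2P1N12 (i : Nat) : Nat := Bool.rec (HL2P1N5 i) (HL2P1N11 i) (Nat.ble 72704 i)
noncomputable def HL2L78 (i : Nat) : Nat := Nat.land (Nat.shiftRight 0x0 (Nat.mul 24 (Nat.land i 1023))) 16777215
noncomputable def HL2L79 (i : Nat) : Nat := Nat.land (Nat.shiftRight 0x0 (Nat.mul 24 (Nat.land i 1023))) 16777215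
noncomputable def HL2P1N13 (i : Nat) : Nat := Bool.rec (HL2L78 i) (HL2L79 i) (Nat.ble 80896 i)
noncomputable def HL2L80 (i : Nat) : Nat := Nat.land (Nat.shiftRight 0x0 (Nat.mul 24 (Nat.land i 1023))) 16777215
noncomputable def HL2L81 (i : Nat) : Nat := Nat.land (Nat.shiftRight 0x0 (Nat.mul 24 (Nat.land i 1023))) 16777215
noncomputable def HL2P1N14 (i : Nat) : Nat := Bool.rec (HL2L80 i) (HL2L81 i) (Nat.ble 82944 i)
noncomputable def HL2P1N15 (i : Nat) : Nat := Bool.rec (HL2P1N13 i) (HL2P1N14 i) (Nat.ble 81920 i)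
noncomputable def HL2L82 (i : Nat) : Nat := Nat.land (Nat.shiftRight 0x0 (Nat.mul 24 (Nat.land i 1023))) 16777215
noncomputable def HL2L83 (i : Nat) : Nat := Nat.land (Nat.shiftRight 0x0 (Nat.mul 24 (Nat.land i 1023))) 16777215
noncomputable def HL2P1N16 (i : Nat) : Nat := Bool.rec (HL2L82 i) (HL2L83 i) (Nat.ble 84992 i)
noncomputable def HL2L84 (i : Nat) : Nat := Nat.land (Nat.shiftRight 0x0 (Nat.mul 24 (Nat.land i 1023))) 16777215
noncomputable def HL2P1N17 (i : Nat) : Nat := Bool.rec (HL2P1N16 i) (HL2L84 i) (Nat.ble 86016 i)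
noncomputable def HL2P1N18 (i : Nat) : Nat := Bool.rec (HL2P1N15 i) (HL2P1N17 i) (Nat.ble 83968 i)
noncomputable def HL2L85 (i : Nat) : Nat := Nat.land (Nat.shiftRight 0x0 (Nat.mul 24 (Nat.land i 1023))) 16777215
noncomputable def HL2L86 (i : Nat) : Nat := Nat.land (Nat.shiftRight 0x0 (Nat.mul 24 (Nat.land i 1023))) 16777215
noncomputable def HL2P1N19 (i : Nat) : Nat := Bool.rec (HL2L85 i) (HL2L86 i) (Nat.ble 88064 i)
noncomputable def HL2L87 (i : Nat) : Nat := Nat.land (Nat.shiftRight 0x0 (Nat.mul 24 (Nat.land i 1023))) 16777215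
noncomputable def HL2L88 (i : Nat) : Nat := Nat.land (Nat.shiftRight 0x0 (Nat.mul 24 (Nat.land i 1023))) 16777215
noncomputable def HL2P1N20 (i : Nat) : Nat := Bool.rec (HL2L87 i) (HL2L88 i) (Nat.ble 90112 i)
noncomputable def HL2P1N21 (i : Nat) : Nat := Bool.rec (HL2P1N19 i) (HL2P1N20 i) (Nat.ble 89088 i)
noncomputable def HL2L89 (i : Nat) : Nat := Nat.land (Nat.shiftRight 0x0 (Nat.mul 24 (Nat.land i 1023))) 16777215
noncomputable def HL2L90 (i : Nat) : Nat := Nat.land (Nat.shiftRight 0x0 (Nat.mul 24 (Nat.land i 1023))) 16777215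
noncomputable def HL2P1N22 (i : Nat) : Nat := Bool.rec (HL2L89 i) (HL2L90 i) (Nat.ble 92160 i)
noncomputable def HL2L91 (i : Nat) : Nat := Nat.land (Nat.shiftRight 0x0 (Nat.mul 24 (Nat.land i 1023))) 16777215
noncomputable def HL2P1N23 (i : Nat) : Nat := Bool.rec (HL2P1N22 i) (HL2L91 i) (Nat.ble 93184 i)
noncomputable def HL2P1N24 (i : Nat) : Nat := Bool.rec (HL2P1N21 i) (HL2P1N23 i) (Nat.ble 91136 i)
noncomputable def HL2P1N25 (i : Nat) : Nat := Bool.rec (HL2P1N18 i) (HL2P1N24 i) (Nat.ble 87040 i)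
noncomputable def HL2P1N26 (i : Nat) : Nat := Bool.rec (HL2P1N12 i) (HL2P1N25 i) (Nat.ble 79872 i)
noncomputable def HL2L92 (i : Nat) : Nat := Nat.land (Nat.shiftRight 0x0 (Nat.mul 24 (Nat.land i 1023))) 16777215
noncomputable def HL2L93 (i : Nat) : Nat := Nat.land (Nat.shiftRight 0x0 (Nat.mul 24 (Nat.land i 1023))) 16777215
noncomputable def HL2P1N27 (i : Nat) : Nat := Bool.rec (HL2L92 i) (HL2L93 i) (Nat.ble 95232 i)
noncomputable def HL2L94 (i : Nat) : Nat := Nat.land (Nat.shiftRight 0x0 (Nat.mul 24 (Nat.land i 1023))) 16777215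
noncomputable def HL2L95 (i : Nat) : Nat := Nat.land (Nat.shiftRight 0x0 (Nat.mul 24 (Nat.land i 1023))) 16777215
noncomputable def HL2P1N28 (i : Nat) : Nat := Bool.rec (HL2L94 i) (HL2L95 i) (Nat.ble 97280 i)
noncomputable def HL2P1N29 (i : Nat) : Nat := Bool.rec (HL2P1N27 i) (HL2P1N28 i) (Nat.ble 96256 i)
noncomputable def HL2L96 (i : Nat) : Nat := Nat.land (Nat.shiftRight 0x0 (Nat.mul 24 (Nat.land i 1023))) 16777215
noncomputable def HL2L97 (i : Nat) : Nat := Nat.land (Nat.shiftRight 0x0 (Nat.mul 24 (Nat.land i 1023))) 16777215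
noncomputable def HL2P1N30 (i : Nat) : Nat := Bool.rec (HL2L96 i) (HL2L97 i) (Nat.ble 99328 i)
noncomputable def HL2L98 (i : Nat) : Nat := Nat.land (Nat.shiftRight 0x0 (Nat.mul 24 (Nat.land i 1023))) 16777215
noncomputable def HL2P1N31 (i : Nat) : Nat := Bool.rec (HL2P1N30 i) (HL2L98 i) (Nat.ble 100352 i)
noncomputable def HL2P1N32 (i : Nat) : Nat := Bool.rec (HL2P1N29 i) (HL2P1N31 i) (Nat.ble 98304 i)
noncomputable def HL2L99 (i : Nat) : Nat := Nat.land (Nat.shiftRight 0x0 (Nat.mul 24 (Nat.land i 1023))) 16777215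
noncomputable def HL2L100 (i : Nat) : Nat := Nat.land (Nat.shiftRight 0x0 (Nat.mul 24 (Nat.land i 1023))) 16777215
noncomputable def HL2P1N33 (i : Nat) : Nat := Bool.rec (HL2L99 i) (HL2L100 i) (Nat.ble 102400 i)
noncomputable def HL2L101 (i : Nat) : Nat := Nat.land (Nat.shiftRight 0x0 (Nat.mul 24 (Nat.land i 1023))) 16777215
noncomputable def HL2L102 (i : Nat) : Nat := Nat.land (Nat.shiftRight 0x0 (Nat.mul 24 (Nat.land i 1023))) 16777215
noncomputable def HL2P1N34 (i : Nat) : Nat := Bool.rec (HL2L101 i) (HL2L102 i) (Nat.ble 104448 i)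
noncomputable def HL2P1N35 (i : Nat) : Nat := Bool.rec (HL2P1N33 i) (HL2P1N34 i) (Nat.ble 103424 i)
noncomputable def HL2L103 (i : Nat) : Nat := Nat.land (Nat.shiftRight 0x0 (Nat.mul 24 (Nat.land i 1023))) 16777215
noncomputable def HL2L104 (i : Nat) : Nat := Nat.land (Nat.shiftRight 0x0 (Nat.mul 24 (Nat.land i 1023))) 16777215
noncomputable def HL2P1N36 (i : Nat) : Nat := Bool.rec (HL2L103 i) (HL2L104 i) (Nat.ble 106496 i)
noncomputable def HL2L105 (i : Nat) : Nat := Nat.land (Nat.shiftRight 0x0 (Nat.mul 24 (Nat.land i 1023))) 16777215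
noncomputable def HL2P1N37 (i : Nat) : Nat := Bool.rec (HL2P1N36 i) (HL2L105 i) (Nat.ble 107520 i)
noncomputable def HL2P1N38 (i : Nat) : Nat := Bool.rec (HL2P1N35 i) (HL2P1N37 i) (Nat.ble 105472 i)
noncomputable def HL2P1N39 (i : Nat) : Nat := Bool.rec (HL2P1N32 i) (HL2P1N38 i) (Nat.ble 101376 i)
noncomputable def HL2L106 (i : Nat) : Nat := Nat.land (Nat.shiftRight 0x0 (Nat.mul 24 (Nat.land i 1023))) 16777215
noncomputable def HL2L107 (i : Nat) : Nat := Nat.land (Nat.shiftRight 0x0 (Nat.mul 24 (Nat.land i 1023))) 16777215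
noncomputable def HL2P1N40 (i : Nat) : Nat := Bool.rec (HL2L106 i) (HL2L107 i) (Nat.ble 109568 i)
noncomputable def HL2L108 (i : Nat) : Nat := Nat.land (Nat.shiftRight 0x0 (Nat.mul 24 (Nat.land i 1023))) 16777215
noncomputable def HL2L109 (i : Nat) : Nat := Nat.land (Nat.shiftRight 0x0 (Nat.mul 24 (Nat.land i 1023))) 16777215
noncomputable def HL2P1N41 (i : Nat) : Nat := Bool.rec (HL2L108 i) (HL2L109 i) (Nat.ble 111616 i)
noncomputable def HL2P1N42 (i : Nat) : Nat := Bool.rec (HL2P1N40 i) (HL2P1N41 i) (Nat.ble 110592 i)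
noncomputable def HL2L110 (i : Nat) : Nat := Nat.land (Nat.shiftRight 0x0 (Nat.mul 24 (Nat.land i 1023))) 16777215
noncomputable def HL2L111 (i : Nat) : Nat := Nat.land (Nat.shiftRight 0x0 (Nat.mul 24 (Nat.land i 1023))) 16777215
noncomputable def HL2P1N43 (i : Nat) : Nat := Bool.rec (HL2L110 i) (HL2L111 i) (Nat.ble 113664 i)
noncomputable def HL2L112 (i : Nat) : Nat := Nat.land (Nat.shiftRight 0x0 (Nat.mul 24 (Nat.land i 1023))) 16777215
noncomputable def HL2P1N44 (i : Nat) : Nat := Bool.rec (HL2P1N43 i) (HL2L112 i) (Nat.ble 114688 i)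
noncomputable def HL2P1N45 (i : Nat) : Nat := Bool.rec (HL2P1N42 i) (HL2P1N44 i) (Nat.ble 112640 i)
noncomputable def HL2L113 (i : Nat) : Nat := Nat.land (Nat.shiftRight 0x0 (Nat.mul 24 (Nat.land i 1023))) 16777215
noncomputable def HL2L114 (i : Nat) : Nat := Nat.land (Nat.shiftRight 0x0 (Nat.mul 24 (Nat.land i 1023))) 16777215
noncomputable def HL2P1N46 (i : Nat) : Nat := Bool.rec (HL2L113 i) (HL2L114 i) (Nat.ble 116736 i)
noncomputable def HL2L115 (i : Nat) : Nat := Nat.land (Nat.shiftRight 0x0 (Nat.mul 24 (Nat.land i 1023))) 16777215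
noncomputable def HL2L116 (i : Nat) : Nat := Nat.land (Nat.shiftRight 0x0 (Nat.mul 24 (Nat.land i 1023))) 16777215
noncomputable def HL2P1N47 (i : Nat) : Nat := Bool.rec (HL2L115 i) (HL2L116 i) (Nat.ble 118784 i)
noncomputable def HL2P1N48 (i : Nat) : Nat := Bool.rec (HL2P1N46 i) (HL2P1N47 i) (Nat.ble 117760 i)
noncomputable def HL2L117 (i : Nat) : Nat := Nat.land (Nat.shiftRight 0x0 (Nat.mul 24 (Nat.land i 1023))) 16777215
noncomputable def HL2L118 (i : Nat) : Nat := Nat.land (Nat.shiftRight 0x0 (Nat.mul 24 (Nat.land i 1023))) 16777215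
noncomputable def HL2P1N49 (i : Nat) : Nat := Bool.rec (HL2L117 i) (HL2L118 i) (Nat.ble 120832 i)
noncomputable def HL2L119 (i : Nat) : Nat := Nat.land (Nat.shiftRight 0x0 (Nat.mul 24 (Nat.land i 1023))) 16777215
noncomputable def HL2P1N50 (i : Nat) : Nat := Bool.rec (HL2P1N49 i) (HL2L119 i) (Nat.ble 121856 i)
noncomputable def HL2P1N51 (i : Nat) : Nat := Bool.rec (HL2P1N48 i) (HL2P1N50 i) (Nat.ble 119808 i)
noncomputable def HL2P1N52 (i : Nat) : Nat := Bool.rec (HL2P1N45 i) (HL2P1N51 i) (Nat.ble 115712 i)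
noncomputable def HL2P1N53 (i : Nat) : Nat := Bool.rec (HL2P1N39 i) (HL2P1N52 i) (Nat.ble 108544 i)
noncomputable def HL2P1N54 (i : Nat) : Nat := Bool.rec (HL2P1N26 i) (HL2P1N53 i) (Nat.ble 94208 i)
end Cfsg.Agent.Lib.Helper6.TCD.ONaL
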