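import Cfsg.Agent.Lib.Helper6.LB1
import Cfsg.Agent.Lib.Helper6.TCD.ONaL.Lv
set_option autoImplicit false
set_option maxRecDepth 1000000
set_option Elab.async false
open Cfsg.Agent.Lib.Helper6.TC
namespace Cfsg.Agent.Lib.Helper6.TCD.ONaL
open Cfsg.Agent.Lib.Helper6.TCD.ONa
theorem chkOrbL1 : chkOrb labL1 rnkL1 mvL1 45 122760 = true := by decide +kernel
theorem cntL1 : cntLab labL1 1 122760 = 58653 := by decide +kernel
theorem fixL1_0_0 : Nat.beq (WL1_0 0) 0 = true := by decide +kernel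
theorem fixL1_1_0 : Nat.beq (WL1_1 0) 0 = true := by decide +kernel
theorem fixL1_2_0 : Nat.beq (WL1_2 0) 0 = true := by decide +kernel
theorem fixL1_3_0 : Nat.beq (WL1_3 0) 0 = true := by decide +kernel
theorem fixL1_4_0 : Nat.beq (WL1_4 0) 0 = true := by decide +kernel
theorem fixL1_5_0 : Nat.beq (WL1_5 0) 0 = true := by decide +kernel
end Cfsg.Agent.Lib.Helper6.TCD.ONaL
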